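import Mathlib
import Cfsg.Agent.H19.ThT1.R

set_option autoImplicit false
set_option maxRecDepth 100000
set_option Elab.async false
set_option linter.all false

namespace H19.ThT1
open H29

noncomputable def pr0 : List (ℕ × ℕ) := [(140, (nat_lit 0x700000400000100000700000200000700000200000700000100000700000100008900000700000200000700001800002000000800001000001800002000000800001000001800002000000800001000001800002000003900000800001000000200000800001000001800006100001000001800002000000800001000001800006900000700001800000200001800002000005100000700000100000000000a00000000000700000d00000700003000003000003000000900002000002800000200002800002800000700003000003000003000000100002000002800000a00002800002800000700007500000700000800001000001800002000000800001000001800002000000800001000001800002000000100000800001000000a00001200001000001800002000000800001000001800002000000800001000001800002000000800001000001800000700004500000700002000001800002000001100000700001800000100000800000700001d00000700003d000007000008000020000009000007000001000008000007000025000007000020000001000007000035))]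
theorem p0 : chkProg 3 (ivOf ivl) R0 pr0 [(0, w0)] = true := by decide +kernel

end H19.ThT1
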